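import Cfsg.Agent.Classical.Decomp.MultiBlock
import Cfsg.Agent.Classical.Decomp.Main

/-!
Decompositions into summands of dimension two, two of them allowed: a dilation of one summand is balanced
in the other one.
-/

set_option autoImplicit false

namespace Cfsg.Agent.Classical.Decomp

open Module Cfsg.Agent.ClassicalMax

section

variable {F V : Type*} [Field F] [AddCommGroup V] [Module F V] [FiniteDimensional F V]
  {ι : Type*} [Fintype ι] [DecidableEq ι] {D : ι → Submodule F V} {P : ι → V →ₗ[F] V} {m : ℕ}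
  {M : Subgroup (V ≃ₗ[F] V)}

/-- a transvection across two summands, with a unit of square different from one -/
theorem Over.across_sq (h : Over D P m M) {δ : Fˣ} (hδ : δ ^ 2 ≠ 1) {g : V ≃ₗ[F] V}
    (hg : g ∈ M) (hgD : ¬ Permutes D g) : Across D M := by
  classical
  obtain ⟨φ, w, hw, hφ, hwD, hT⟩ := h.exists_impure hg hgD
  by_cases hA : ∃ j, P j w ≠ 0 ∧ ∀ x ∈ D j, φ x = 0
  · obtain ⟨j, hj0, hj⟩ := hA
    obtain ⟨k, hkj, hk⟩ := h.exists_off hφ hj
    obtain ⟨u, hu, huw⟩ := exists_mem_not_span h.dim h.two_le j (P j w)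
    have hu0 : u ≠ 0 := fun e => huw (e ▸ zero_mem _)
    exact h.across_of_good hw hT hkj hk hu hu0 (hj u hu) fun e => huw (span_singleton_self_inv hj0 hu0 e)
  push Not at hA
  have hw2 : ∀ j, ∃ k, k ≠ j ∧ P k w ≠ 0 := fun j => by
    by_contra hc
    push Not at hc
    refine hwD j ?_
    rw [← h.proj.sum w]
    exact sum_mem fun i _ => (eq_or_ne i j).elim (fun e => e ▸ h.proj.mem _ _) fun hne => by
      rw [hc i hne]; exact zero_mem _
  obtain ⟨j, hj0⟩ : ∃ j, P j w ≠ 0 := by
    by_contra hc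
    push Not at hc
    obtain ⟨x, hx⟩ : ∃ x, φ x ≠ 0 := by
      by_contra hc'
      push Not at hc'
      exact hφ (LinearMap.ext hc')
    rw [← h.proj.sum x, map_sum] at hx
    obtain ⟨i, -, -⟩ := Finset.exists_ne_zero_of_sum_ne_zero hx
    refine hwD i ?_
    rw [← h.proj.sum w, Finset.sum_eq_zero fun k _ => hc k]
    exact zero_mem _
  obtain ⟨l, hlj, hl0⟩ := hw2 j
  have off : ∀ i, ∃ k, k ≠ i ∧ ∃ x ∈ D k, φ x ≠ 0 := fun i => by
    rcases eq_or_ne l i with rfl | hli
    · exact ⟨j, Ne.symm hlj, hA j hj0⟩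
    · exact ⟨l, hli, hA l hl0⟩
  have good : ∀ i, φ (P i w) ≠ 0 → Across D M := by
    intro i hi
    obtain ⟨k, hki, hk⟩ := off i
    obtain ⟨y, hy, hy'⟩ := exists_mem_not_span h.dim h.two_le i (P i w)
    refine h.across_of_good hw hT hki hk (u := y - (φ y / φ (P i w)) • P i w)
      (sub_mem hy (Submodule.smul_mem _ _ (h.proj.mem _ _))) (fun e => hy' ?_) ?_ fun e => ?_
    · rw [sub_eq_zero] at e
      rw [e]
      exact Submodule.smul_mem _ _ (Submodule.mem_span_singleton_self _)
    · rw [map_sub, map_smul, smul_eq_mul, div_mul_cancel₀ _ hi, sub_self]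
    · obtain ⟨c, hc⟩ := Submodule.mem_span_singleton.1 e
      refine hi ?_
      rw [← hc, map_smul, map_sub, map_smul, smul_eq_mul, smul_eq_mul, div_mul_cancel₀ _ hi, sub_self, mul_zero]
  by_cases hz : ∀ i, φ (P i w) = 0
  swap
  · push Not at hz
    obtain ⟨i, hi⟩ := hz
    exact good i hi
  -- two summands `j`, `l` on which the centre and the functional are degenerate, and a third one
  have unit : ∀ i, P i w ≠ 0 → ∃ (f : V) (θ : Dual F V), f ∈ D i ∧ φ f = 1 ∧ θ f = 1 ∧ θ (P i w) = 0 := by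
    intro i hi
    obtain ⟨x, hx, hφx⟩ := hA i hi
    have hf : (φ x)⁻¹ • x ∉ Submodule.span F {P i w} := fun e => by
      obtain ⟨c, hc⟩ := Submodule.mem_span_singleton.1 e
      have := congrArg φ hc
      rw [map_smul, hz i, smul_zero, map_smul, smul_eq_mul, inv_mul_cancel₀ hφx] at this
      exact zero_ne_one this
    obtain ⟨θ, h1, h2⟩ := exists_dual_one _ hf
    exact ⟨_, θ, Submodule.smul_mem _ _ hx, by rw [map_smul, smul_eq_mul, inv_mul_cancel₀ hφx], h1,
      h2 _ (Submodule.mem_span_singleton_self _)⟩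
  obtain ⟨fj, θd, hfj, hφj, hθd, hθdw⟩ := unit j hj0
  obtain ⟨fl, θl, hfl, hφl, hθl, hθlw⟩ := unit l hl0
  obtain ⟨θj, hθj1, hθj⟩ := exists_dual_one (Submodule.span F {fj}) (x := P j w) fun e => by
    obtain ⟨c, hc⟩ := Submodule.mem_span_singleton.1 e
    have := congrArg φ hc
    rw [map_smul, hφj, hz j, smul_eq_mul, mul_one] at this
    exact hj0 (by rw [← hc, this, zero_smul])
  obtain ⟨θm, hθm1, hθm⟩ := exists_dual_one (Submodule.span F {fl}) (x := P l w) fun e => by
    obtain ⟨c, hc⟩ := Submodule.mem_span_singleton.1 e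
    have := congrArg φ hc
    rw [map_smul, hφl, hz l, smul_eq_mul, mul_one] at this
    exact hl0 (by rw [← hc, this, zero_smul])
  have pj : θj (P j fj) = 0 := by rw [h.proj.self j fj hfj, hθj fj (Submodule.mem_span_singleton_self _)]
  have pl : θm (P l fl) = 0 := by rw [h.proj.self l fl hfl, hθm fl (Submodule.mem_span_singleton_self _)]
  have dl : θl (P l fl) = 1 := by rw [h.proj.self l fl hfl, hθl]
  have dk : θd (P j fj) = 1 := by rw [h.proj.self j fj hfj, hθd]
  set Bj := tvec (θj.comp (P j)) fj with hBj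
  set Bl := tvec (θm.comp (P l)) (-fl) with hBl
  set Dl := dil (θl.comp (P l)) fl δ with hDl
  set Dk := dil (θd.comp (P j)) fj δ⁻¹ with hDk
  have pl' : (θm.comp (P l)) (-fl) = 0 := by rw [map_neg, LinearMap.comp_apply, pl, neg_zero]
  have hh : Bj * (Bl * (Dl * Dk)) ∈ M := by
    refine mul_mem (h.block_tvec hfj θj pj) (mul_mem (h.block_tvec (neg_mem hfl) θm pl') (h.stab _ ?_ ?_))
    · refine permutes_of_le h.dim _ 1 fun i x hx => ?_
      rw [LinearEquiv.mul_apply, Equiv.Perm.one_apply, hDl, hDk, dil_apply (show (θd.comp (P j)) fj = 1 from dk),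
        dil_apply (show (θl.comp (P l)) fl = 1 from dl)]
      have aux : ∀ (a : ι) (v : V) (ψ : Dual F V) (c : F) (z : V), z ∈ D i → v ∈ D a →
          z + (ψ.comp (P a)) z • c • v ∈ D i := fun a v ψ c z hz hv => by
        rcases eq_or_ne i a with rfl | hne
        · exact add_mem hz (Submodule.smul_mem _ _ (Submodule.smul_mem _ _ hv))
        · rw [LinearMap.comp_apply, h.proj.other a i hne z hz, map_zero, zero_smul, add_zero]; exact hz
      exact aux l fl θl _ _ (aux j fj θd _ x hx hfj) hfl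
    · rw [det_mul, det_dil (show (θl.comp (P l)) fl = 1 from dl), det_dil (show (θd.comp (P j)) fj = 1 from dk),
        ← Units.val_mul, mul_inv_cancel, Units.val_one]
  set hc := Bj * (Bl * (Dl * Dk)) with hhc
  have Plfj : P l fj = 0 := h.proj.other l j (Ne.symm hlj) fj hfj
  have Pjfl : P j fl = 0 := h.proj.other j l hlj fl hfl
  have ehw : hc w = w + fj + -fl := by
    rw [hhc, LinearEquiv.mul_apply, LinearEquiv.mul_apply, LinearEquiv.mul_apply, hDk,
      dil_apply (show (θd.comp (P j)) fj = 1 from dk), LinearMap.comp_apply,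
      hθdw, zero_smul, add_zero, hDl,
      dil_apply (show (θl.comp (P l)) fl = 1 from dl), LinearMap.comp_apply, hθlw, zero_smul, add_zero, hBl,
      tvec_apply pl', LinearMap.comp_apply, hθm1, one_smul, hBj, tvec_apply (show (θj.comp (P j)) fj = 0 from pj),
      map_add, LinearMap.comp_apply, LinearMap.comp_apply, hθj1, map_neg (P j), Pjfl, neg_zero, map_zero, add_zero,
      one_smul]
    abel
  have ehiw : hc⁻¹ w = w - (δ : F) • fj + ((δ⁻¹ : Fˣ) : F) • fl := by
    rw [eq_comm, ← sub_eq_zero]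
    apply hc.map_eq_zero_iff.1
    rw [map_sub, map_add, map_sub, apply_inv, map_smul, map_smul, ehw]
    have e1 : hc fj = ((δ⁻¹ : Fˣ) : F) • fj := by
      rw [hhc, LinearEquiv.mul_apply, LinearEquiv.mul_apply, LinearEquiv.mul_apply, hDk,
        dil_apply (show (θd.comp (P j)) fj = 1 from dk), LinearMap.comp_apply, dk, one_smul,
        show fj + (((δ⁻¹ : Fˣ) : F) - 1) • fj = ((δ⁻¹ : Fˣ) : F) • fj by rw [sub_smul, one_smul]; abel,
        hDl, dil_apply (show (θl.comp (P l)) fl = 1 from dl), LinearMap.comp_apply, map_smul, Plfj, smul_zero,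
        map_zero, zero_smul, add_zero, hBl, tvec_apply pl', LinearMap.comp_apply, map_smul, Plfj, smul_zero,
        map_zero, zero_smul, add_zero, hBj, tvec_apply (show (θj.comp (P j)) fj = 0 from pj),
        LinearMap.comp_apply, map_smul, map_smul, pj, smul_zero, zero_smul, add_zero]
    have e2 : hc fl = (δ : F) • fl := by
      rw [hhc, LinearEquiv.mul_apply, LinearEquiv.mul_apply, LinearEquiv.mul_apply, hDk,
        dil_apply (show (θd.comp (P j)) fj = 1 from dk), LinearMap.comp_apply, Pjfl, map_zero, zero_smul, add_zero,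
        hDl, dil_apply (show (θl.comp (P l)) fl = 1 from dl), LinearMap.comp_apply, dl, one_smul,
        show fl + ((δ : F) - 1) • fl = (δ : F) • fl by rw [sub_smul, one_smul]; abel, map_smul, hBl,
        tvec_apply pl', LinearMap.comp_apply, pl, zero_smul, add_zero, map_smul, hBj,
        tvec_apply (show (θj.comp (P j)) fj = 0 from pj), LinearMap.comp_apply, Pjfl, map_zero, zero_smul, add_zero]
    rw [e1, e2, smul_smul, smul_smul, ← Units.val_mul, ← Units.val_mul, mul_inv_cancel, inv_mul_cancel,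
      Units.val_one, one_smul, one_smul]
    abel
  have hT' := mul_mem (mul_mem hh hT) (inv_mem hh)
  rw [conj_tvec _ hw] at hT'
  have v1 : φ (hc w) = 0 := by rw [ehw, map_add, map_add, map_neg, hw, hφj, hφl]; ring
  have v2 : (φ.comp (hc⁻¹ : V ≃ₗ[F] V).toLinearMap) (hc w) = 0 := by
    show φ (hc⁻¹ (hc w)) = 0
    rw [inv_apply, hw]
  have v3 : (φ.comp (hc⁻¹ : V ≃ₗ[F] V).toLinearMap) w ≠ 0 := by
    show φ (hc⁻¹ w) ≠ 0
    rw [ehiw, map_add, map_sub, map_smul, map_smul, hw, hφj, hφl, smul_eq_mul, smul_eq_mul, mul_one, mul_one,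
      zero_sub, neg_add_eq_sub, sub_ne_zero]
    intro e
    have e' : δ⁻¹ = δ := Units.ext e
    exact hδ (by rw [pow_two]; nth_rewrite 1 [← e']; rw [inv_mul_cancel])
  have hcomm := mul_mem (mul_mem (mul_mem hT' hT) (inv_mem hT')) (inv_mem hT)
  rw [comm_tvec v2 hw v1] at hcomm
  set c := (φ.comp (hc⁻¹ : V ≃ₗ[F] V).toLinearMap) w with hc_def
  have ePj : P j (hc w) = P j w + fj := by
    rw [ehw, map_add, map_add, map_neg, Pjfl, neg_zero, add_zero, h.proj.self j fj hfj]
  have hφ' : (c • φ) (P j (hc w)) ≠ 0 := by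
    rw [LinearMap.smul_apply, ePj, map_add, hz j, hφj, zero_add, smul_eq_mul, mul_one]
    exact v3
  obtain ⟨x, hx, hφx⟩ := hA l hl0
  obtain ⟨z, hz1, hz2⟩ := exists_mem_not_span h.dim h.two_le j (P j (hc w))
  refine h.across_of_good (by rw [LinearMap.smul_apply, v1, smul_zero]) hcomm hlj
    ⟨x, hx, by rw [LinearMap.smul_apply, smul_eq_mul]; exact mul_ne_zero v3 hφx⟩
    (u := z - ((c • φ) z / (c • φ) (P j (hc w))) • P j (hc w))
    (sub_mem hz1 (Submodule.smul_mem _ _ (h.proj.mem _ _))) (fun e => hz2 ?_) ?_ fun e => ?_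
  · rw [sub_eq_zero] at e
    rw [e]
    exact Submodule.smul_mem _ _ (Submodule.mem_span_singleton_self _)
  · rw [map_sub, map_smul, smul_eq_mul, div_mul_cancel₀ _ hφ', sub_self]
  · obtain ⟨a, ha⟩ := Submodule.mem_span_singleton.1 e
    refine hφ' ?_
    conv_lhs => rw [← ha]
    rw [map_smul, map_sub, map_smul, smul_eq_mul, smul_eq_mul, div_mul_cancel₀ _ hφ', sub_self, mul_zero]

/-- every transvection, with a unit of square different from one -/
theorem Over.all_tvec_sq (h : Over D P m M) {δ : Fˣ} (hδ : δ ^ 2 ≠ 1) {g : V ≃ₗ[F] V}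
    (hg : g ∈ M) (hgD : ¬ Permutes D g) : ∀ (φ : Dual F V) (w : V), φ w = 0 → tvec φ w ∈ M := by
  have hA := h.across_sq hδ hg hgD
  obtain ⟨j, _, u, _, _, hu, hu0, _⟩ := hA
  refine all_tvec_of_centres (⋃ i, (D i : Set V)) ?_ (v := u) (Set.mem_iUnion.2 ⟨j, hu⟩) hu0 fun v hv φ hφ => ?_
  · rw [Submodule.span_iUnion]
    simpa using h.span
  · obtain ⟨i, hi⟩ := Set.mem_iUnion.1 hv
    exact h.centre (h.across_sq hδ hg hgD) i hi hφ

end

/-- the stabiliser of a decomposition into summands of dimension two is maximal over fields with at least four elements -/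
theorem isMaximal_planes {F : Type*} [Field F] [Fintype F] {κ : Type} [Fintype κ] [DecidableEq κ] {t : ℕ}
    {D : Fin t → Submodule F (κ → F)} (hD : Cfsg.Geo.IsMDecomposition 2 D) (hq : 4 ≤ Fintype.card F) :
    Cfsg.Geo.IsMaximalIn (Cfsg.Geo.specialLinear κ F)
      (Cfsg.Geo.decompositionStabilizer D ⊓ Cfsg.Geo.specialLinear κ F) := by
  classical
  refine isMaximalIn_of (proper hD) fun M hstab _ ⟨g, hg, hgD⟩ => ?_
  obtain ⟨P, hP⟩ := exists_proj hD.indep hD.iSup_eq_top
  have h : Over D P 2 M := ⟨hD.indep, hD.iSup_eq_top, hP, hD.finrank_eq, le_rfl, hstab⟩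
  obtain ⟨δ, hδ⟩ := IsCyclic.exists_generator (α := Fˣ)
  refine h.all_tvec_sq (δ := δ) (fun e => ?_) hg hgD
  have h1 : orderOf δ ∣ 2 := orderOf_dvd_of_pow_eq_one e
  rw [orderOf_eq_card_of_forall_mem_zpowers hδ, Nat.card_eq_fintype_card, Fintype.card_units] at h1
  have := Nat.le_of_dvd two_pos h1
  omega

end Cfsg.Agent.Classical.Decomp
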