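import Cfsg.Agent.Classical.Decomp.Main

/-!
Overgroups of the monomial group in dimension four: some non-monomial element fixes a coordinate line.
A conjugate of a homology removes every zero entry, and ratios of products of entries finish.
-/

set_option autoImplicit false
set_option linter.unusedSectionVars false

namespace Cfsg.Agent.Classical.Decomp.Four

open Module Cfsg.Agent.ClassicalMax

variable {F V : Type*} [Field F] [AddCommGroup V] [Module F V] {ι : Type*} [Fintype ι] [DecidableEq ι]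
  {e : Basis ι F V} {M : Subgroup (V ≃ₗ[F] V)}

/-- an entry of the matrix of `x` -/
noncomputable def ent (e : Basis ι F V) (x : V ≃ₗ[F] V) (s k : ι) : F := e.repr (x (e k)) s

theorem repr_map (x : V ≃ₗ[F] V) (v : V) (s : ι) : e.repr (x v) s = ∑ i, e.repr v i * ent e x s i := by
  conv_lhs => rw [← e.sum_repr v]
  rw [map_sum, map_sum, Finsupp.coe_finset_sum, Finset.sum_apply]
  simp [ent]

theorem diag_repr (d : ι → Fˣ) (v : V) (i : ι) : e.repr (monE e 1 d v) i = d i * e.repr v i :=
  repr_monE (e := e) 1 d v i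

theorem ent_inv (x : V ≃ₗ[F] V) (s k : ι) :
    ∑ i, ent e x⁻¹ i k * ent e x s i = if k = s then 1 else 0 := by
  have h := repr_map (e := e) x (x⁻¹ (e k)) s
  rw [apply_inv, Basis.repr_self, Finsupp.single_apply] at h
  exact h.symm

theorem conj_ent (x : V ≃ₗ[F] V) (d : ι → Fˣ) (s k : ι) :
    ent e (x * monE e 1 d * x⁻¹) s k = ∑ i, (d i : F) * (ent e x⁻¹ i k * ent e x s i) := by
  rw [ent, LinearEquiv.mul_apply, LinearEquiv.mul_apply, repr_map]
  refine Finset.sum_congr rfl fun i _ => ?_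
  rw [diag_repr, mul_assoc]
  rfl

theorem conj_diag_inv (x : V ≃ₗ[F] V) (d : ι → Fˣ) :
    (x * monE e 1 d * x⁻¹)⁻¹ = x * monE e 1 (fun i => (d i)⁻¹) * x⁻¹ := by
  rw [mul_inv_rev, mul_inv_rev, inv_inv, monE_inv, inv_one, mul_assoc]
  rfl

/-- two non-zero entries of a column off the diagonal -/
theorem not_mono {y : V ≃ₗ[F] V} {k s s' : ι} (hne : s ≠ s') (h : ent e y s k ≠ 0) (h' : ent e y s' k ≠ 0) :
    ¬ Mono e y := fun hm => by
  obtain ⟨j, c, hj⟩ := hm k
  simp only [ent, hj, map_smul, Basis.repr_self, Finsupp.smul_apply, Finsupp.single_apply] at h h'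
  rcases eq_or_ne j s with rfl | hjs
  · rw [if_neg hne, smul_zero] at h'
    exact h' rfl
  · rw [if_neg hjs, smul_zero] at h
    exact h rfl

theorem of_ent_zero {x : V ≃ₗ[F] V} {k p : ι} (h : ∀ s, s ≠ p → ent e x s k = 0) :
    x (e k) = ent e x p k • e p := repr_eq_single h

theorem col_two (h : MOver e M) (hfix : ¬ HasFix e M) {x : V ≃ₗ[F] V} (hx : x ∈ M) (hn : ¬ Mono e x) (k p : ι) :
    ∃ s, s ≠ p ∧ ent e x s k ≠ 0 := by
  by_contra! hc
  exact hfix (h.of_single hx hn (of_ent_zero hc))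

variable (hcard : Fintype.card ι = 4)
include hcard

theorem exists_other2 (p q : ι) : ∃ r s : ι, r ≠ s ∧ r ≠ p ∧ r ≠ q ∧ s ≠ p ∧ s ≠ q := by
  have hlt : 1 < (Finset.univ \ {p, q} : Finset ι).card := by
    rw [Finset.card_univ_diff]
    have := Finset.card_le_two (a := p) (b := q)
    omega
  obtain ⟨r, hr, s, hs, hrs⟩ := Finset.one_lt_card.1 hlt
  simp only [Finset.mem_sdiff, Finset.mem_univ, Finset.mem_insert, Finset.mem_singleton, not_or, true_and] at hr hs
  exact ⟨r, s, hrs, hr.1, hr.2, hs.1, hs.2⟩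

theorem sum_four (f : ι → F) {p q r s : ι} (hpq : p ≠ q) (hpr : p ≠ r) (hps : p ≠ s) (hqr : q ≠ r) (hqs : q ≠ s)
    (hrs : r ≠ s) : ∑ i, f i = f p + f q + f r + f s := by
  have hu : ({p, q, r, s} : Finset ι) = Finset.univ := Finset.eq_univ_of_card _ (by
    rw [hcard, Finset.card_insert_of_notMem (by simp [hpq, hpr, hps]),
      Finset.card_insert_of_notMem (by simp [hqr, hqs]), Finset.card_insert_of_notMem (by simp [hrs]),
      Finset.card_singleton])
  rw [← hu, Finset.sum_insert (by simp [hpq, hpr, hps]), Finset.sum_insert (by simp [hqr, hqs]),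
    Finset.sum_insert (by simp [hrs]), Finset.sum_singleton]
  ring

/-- a column with two zero entries -/
theorem two_zeros (h : MOver e M) {b : Fˣ} (hb3 : b ^ 3 ≠ 1) (hb4 : b ^ 4 ≠ 1) {x : V ≃ₗ[F] V} (hx : x ∈ M)
    (hn : ¬ Mono e x) {t p q : ι} (hpq : p ≠ q) (hp : ent e x p t = 0) (hq : ent e x q t = 0) : HasFix e M := by
  by_contra hfix
  have hb2 : b ^ 2 ≠ 1 := fun e2 => hb4 (by rw [show b ^ 4 = (b ^ 2) ^ 2 from pow_mul b 2 2, e2, one_pow])
  obtain ⟨a, a', haa, hu, huq, ha⟩ := h.zero_pair hfix hx hn hpq hp hq hb2 hb3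
  -- the two columns are supported on the pair
  set A := e.repr (x⁻¹ (e p)) a with hA
  set A' := e.repr (x⁻¹ (e p)) a' with hA'
  set lam := e.repr (x⁻¹ (e q)) a / A with hlam
  set w := x⁻¹ (e q) - lam • x⁻¹ (e p) with hw
  have h1 : w = e.repr w a' • e a' := repr_eq_single fun i hi => by
    rw [hw, map_sub, map_smul, Finsupp.sub_apply, Finsupp.smul_apply, smul_eq_mul]
    rcases eq_or_ne i a with rfl | hia
    · rw [hlam, div_mul_cancel₀ _ ha, sub_self]
    · rw [huq i hia hi, hu i hia hi, mul_zero, sub_zero]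
  have hxw : x w = e q - lam • e p := by rw [hw, map_sub, map_smul, apply_inv, apply_inv]
  have hμ : e.repr w a' ≠ 0 := fun h0 => by
    rw [h0, zero_smul] at h1
    rw [h1, map_zero] at hxw
    have := congrArg (fun v => e.repr v q) hxw
    simp [hpq.symm] at this
  have ha's : ∀ i, i ≠ p → i ≠ q → ent e x i a' = 0 := fun i hip hiq => by
    have e1 := congrArg (fun v => e.repr v i) hxw
    rw [h1, map_smul] at e1
    simp [hip.symm, hiq.symm, hμ] at e1
    simpa [ent] using e1
  have hxp : A • x (e a) + A' • x (e a') = e p :=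
    calc A • x (e a) + A' • x (e a') = x (A • e a + A' • e a') := by rw [map_add, map_smul, map_smul]
      _ = x (x⁻¹ (e p)) := by
        congr 1
        conv_rhs => rw [← e.sum_repr (x⁻¹ (e p))]
        rw [Fintype.sum_eq_add a a' haa fun i hi => by rw [hu i hi.1 hi.2, zero_smul]]
      _ = e p := apply_inv _ _
  have has : ∀ i, i ≠ p → i ≠ q → ent e x i a = 0 := fun i hip hiq => by
    have e1 := congrArg (fun v => e.repr v i) hxp
    have h2 : e.repr (x (e a')) i = 0 := ha's i hip hiq
    simp [h2, hip.symm, ha] at e1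
    exact e1
  obtain ⟨r, s, hrs, hrp, hrq, hsp, hsq⟩ := exists_other2 hcard p q
  obtain ⟨c, c', -, hv, hvs, -⟩ := h.zero_pair hfix hx hn hrs (has r hrp hrq) (has s hsp hsq) hb2 hb3
  have hall : ∀ i, i = a ∨ i = a' ∨ i = c ∨ i = c' := by
    intro i
    by_contra! hi
    have hz : (e.coord i).comp (x⁻¹ : V ≃ₗ[F] V).toLinearMap = 0 := e.ext fun k => by
      rw [LinearMap.comp_apply, LinearEquiv.coe_coe, Basis.coord_apply, LinearMap.zero_apply]
      have hu' : ({p, q, r, s} : Finset ι) = Finset.univ := Finset.eq_univ_of_card _ (by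
        rw [hcard, Finset.card_insert_of_notMem (by simp [hpq, hrp.symm, hsp.symm]),
          Finset.card_insert_of_notMem (by simp [hrq.symm, hsq.symm]),
          Finset.card_insert_of_notMem (by simp [hrs]), Finset.card_singleton])
      have hk := Finset.mem_univ k
      rw [← hu'] at hk
      simp only [Finset.mem_insert, Finset.mem_singleton] at hk
      rcases hk with rfl | rfl | rfl | rfl
      · exact hu i hi.1 hi.2.1
      · exact huq i hi.1 hi.2.1
      · exact hv i hi.2.2.1 hi.2.2.2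
      · exact hvs i hi.2.2.1 hi.2.2.2
    have := LinearMap.congr_fun hz (x (e i))
    rw [LinearMap.comp_apply, LinearEquiv.coe_coe, inv_apply] at this
    simp at this
  have three : ∀ u v w : ι, (∀ i, i = u ∨ i = v ∨ i = w) → False := fun u v w hh => by
    have h3 := (Finset.card_le_card (show (Finset.univ : Finset ι) ⊆ {u, v, w} from fun i _ => by
      simpa using hh i)).trans Finset.card_le_three
    rw [Finset.card_univ] at h3
    omega
  have hsep : c ≠ a ∧ c ≠ a' ∧ c' ≠ a ∧ c' ≠ a' :=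
    ⟨fun he => three a a' c' fun i => by have := hall i; rw [he] at this; tauto,
      fun he => three a a' c' fun i => by have := hall i; rw [he] at this; tauto,
      fun he => three a a' c fun i => by have := hall i; rw [he] at this; tauto,
      fun he => three a a' c fun i => by have := hall i; rw [he] at this; tauto⟩
  have hxqa : ent e x q a ≠ 0 := by
    obtain ⟨i, hip, hi⟩ := col_two h hfix hx hn a p
    rcases eq_or_ne i q with rfl | hiq
    · exact hi
    · exact absurd (has i hip hiq) hi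
  have test : ∀ β : Fˣ, β ^ 2 ≠ 1 →
      ((β : F) - (β⁻¹ : Fˣ)) * (A * ent e x p a) + (β⁻¹ : Fˣ) = 0 := by
    intro β hβ
    set y := x * monE e 1 (dpair a a' β) * x⁻¹ with hy
    have hyM : y ∈ M := mul_mem (mul_mem hx (h.stab _ (mono_monE _ _) (det_dpair haa β))) (inv_mem hx)
    have hyr : y (e r) = (1 : F) • e r := by
      have hh : monE e 1 (dpair a a' β) (x⁻¹ (e r)) = x⁻¹ (e r) := e.repr.injective (Finsupp.ext fun i => by
        rw [diag_repr]
        rcases eq_or_ne i a with rfl | hia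
        · rw [hv i hsep.1.symm hsep.2.2.1.symm, mul_zero]
        rcases eq_or_ne i a' with rfl | hia'
        · rw [hv i hsep.2.1.symm hsep.2.2.2.symm, mul_zero]
        rw [dpair_other hia hia', Units.val_one, one_mul])
      rw [hy, LinearEquiv.mul_apply, LinearEquiv.mul_apply, hh, apply_inv, one_smul]
    have hym : Mono e y := by
      by_contra hc
      exact hfix ⟨r, y, hyM, hc, 1, hyr⟩
    have hyp : ∀ i, ent e y i p = ((β : F) - (β⁻¹ : Fˣ)) * (A * ent e x i a) +
        (β⁻¹ : Fˣ) * (if p = i then 1 else 0) := fun i => by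
      rw [hy, conj_ent, Fintype.sum_eq_add a a' haa (fun j hj => by
        rw [show ent e x⁻¹ j p = 0 from hu j hj.1 hj.2, zero_mul, mul_zero]), dpair_left, dpair_right haa,
        ← ent_inv (e := e) x i p, Fintype.sum_eq_add a a' haa (fun j hj => by
        rw [show ent e x⁻¹ j p = 0 from hu j hj.1 hj.2, zero_mul])]
      show _ = ((β : F) - (β⁻¹ : Fˣ)) * (ent e x⁻¹ a p * ent e x i a) + _
      ring
    have hne : ent e y q p ≠ 0 := by
      rw [hyp, if_neg hpq, mul_zero, add_zero]
      refine mul_ne_zero (sub_ne_zero.2 fun e2 => hβ ?_) (mul_ne_zero ha hxqa)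
      have e2' : β = β⁻¹ := Units.ext e2
      rw [pow_two]
      nth_rewrite 1 [e2']
      exact inv_mul_cancel β
    by_contra hc
    refine not_mono hpq.symm hne ?_ hym
    rw [hyp, if_pos rfl, mul_one]
    exact hc
  have t1 := test b hb2
  have t2 := test b⁻¹ (by rw [inv_pow, Ne, inv_eq_one]; exact hb2)
  rw [inv_inv] at t2
  refine hb4 (Units.ext ?_)
  have e0 : (b : F) + (b⁻¹ : Fˣ) = 0 := by linear_combination t1 + t2
  have e1 : (b : F) ^ 2 = -1 := by
    have := b.mul_inv
    linear_combination (b : F) * e0 - this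
  rw [Units.val_pow_eq_pow_val, Units.val_one]
  linear_combination ((b : F) ^ 2 - 1) * e1

omit hcard in
/-- the exponents of a homology of determinant one -/
noncomputable def homD (z : ι) (b : Fˣ) : ι → Fˣ := fun i => if i = z then b⁻¹ ^ 3 else b

theorem det_homD (z : ι) (b : Fˣ) : LinearMap.det (monE e 1 (homD z b)).toLinearMap = 1 := by
  have hp : ∏ i, (homD z b i : F) = 1 := by
    rw [← Units.coe_prod, Fintype.prod_eq_mul_prod_compl z, homD, if_pos rfl,
      Finset.prod_congr rfl (fun i hi => show homD z b i = b from if_neg (by simpa using hi : i ≠ z)),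
      Finset.prod_const,
      Finset.card_compl, Finset.card_singleton, hcard, inv_pow, inv_mul_cancel, Units.val_one]
  rw [det_monE, hp, Equiv.Perm.sign_one]
  simp

omit hcard in
theorem hom_ent (x : V ≃ₗ[F] V) (z : ι) (b : Fˣ) (s k : ι) :
    ent e (x * monE e 1 (homD z b) * x⁻¹) s k =
      (b : F) * (if k = s then 1 else 0) + (((b⁻¹ ^ 3 : Fˣ) : F) - b) * (ent e x⁻¹ z k * ent e x s z) := by
  rw [conj_ent, ← ent_inv (e := e) x s k, Finset.mul_sum]
  have : (((b⁻¹ ^ 3 : Fˣ) : F) - b) * (ent e x⁻¹ z k * ent e x s z) =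
      ∑ i, if i = z then (((b⁻¹ ^ 3 : Fˣ) : F) - b) * (ent e x⁻¹ i k * ent e x s i) else 0 := by simp
  rw [this, ← Finset.sum_add_distrib]
  refine Finset.sum_congr rfl fun i _ => ?_
  rw [homD]
  split_ifs <;> ring

/-- no entry of a non-monomial element is zero -/
theorem ent_ne_zero (h : MOver e M) (hfix : ¬ HasFix e M) {b : Fˣ} (hb3 : b ^ 3 ≠ 1) (hb4 : b ^ 4 ≠ 1)
    {x : V ≃ₗ[F] V} (hx : x ∈ M) (hn : ¬ Mono e x) (s k : ι) : ent e x s k ≠ 0 := by
  suffices key : ∀ x : V ≃ₗ[F] V, x ∈ M → ¬ Mono e x → ∀ z t, ent e x⁻¹ z t ≠ 0 by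
    have := key x⁻¹ (inv_mem hx) (fun hm => hn (by simpa using hm.inv)) s k
    rwa [inv_inv] at this
  clear! x s k
  intro x hx hn z t h0
  have hκ : ((b⁻¹ ^ 3 : Fˣ) : F) - b ≠ 0 := sub_ne_zero.2 fun e1 => hb4 (by
    have e2 : b⁻¹ ^ 3 = b := Units.ext e1
    have e3 : b ^ 3 * b⁻¹ ^ 3 = 1 := by rw [← mul_pow, mul_inv_cancel, one_pow]
    rw [e2] at e3
    rwa [pow_succ])
  set y := x * monE e 1 (homD z b) * x⁻¹ with hy
  have hyM : y ∈ M := mul_mem (mul_mem hx (h.stab _ (mono_monE _ _) (det_homD hcard z b))) (inv_mem hx)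
  have hyt : y (e t) = (b : F) • e t := e.repr.injective (Finsupp.ext fun i => by
    show ent e y i t = _
    rw [hy, hom_ent, h0, zero_mul, mul_zero, add_zero, map_smul, Finsupp.smul_apply, Basis.repr_self,
      Finsupp.single_apply, smul_eq_mul])
  have hym : Mono e y := by
    by_contra hc
    exact hfix ⟨t, y, hyM, hc, _, hyt⟩
  obtain ⟨k, hk⟩ : ∃ k, ent e x⁻¹ z k ≠ 0 := by
    by_contra! hc
    have := ent_inv (e := e) x⁻¹ z z
    rw [if_pos rfl, Finset.sum_eq_zero fun i _ => by rw [hc i, mul_zero]] at this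
    exact zero_ne_one this
  obtain ⟨s, hsk, hs⟩ := col_two h hfix hx hn z k
  have hys : ent e y s k ≠ 0 := by
    rw [hy, hom_ent, if_neg hsk.symm, mul_zero, zero_add]
    exact mul_ne_zero hκ (mul_ne_zero hk hs)
  have hz : ∀ i, i ≠ s → i ≠ k → ent e x i z = 0 := fun i his hik => by
    by_contra hi
    refine not_mono his ?_ hys hym
    rw [hy, hom_ent, if_neg hik.symm, mul_zero, zero_add]
    exact mul_ne_zero hκ (mul_ne_zero hk hi)
  obtain ⟨r, w, hrw, hrs, hrk, hws, hwk⟩ := exists_other2 hcard s k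
  exact hfix (two_zeros hcard h hb3 hb4 hx hn hrw (hz r hrs hrk) (hz w hws hwk))

/-- a monomial conjugate of a dilation pair forces equal or opposite products -/
theorem pm (h : MOver e M) (hfix : ¬ HasFix e M) {b : Fˣ} (hb3 : b ^ 3 ≠ 1) (hb4 : b ^ 4 ≠ 1)
    {x : V ≃ₗ[F] V} (hx : x ∈ M) (hn : ¬ Mono e x) {s t : ι} (hst : s ≠ t) (i j : ι) :
    ent e x⁻¹ i t * ent e x s i = ent e x⁻¹ j t * ent e x s j ∨
      ent e x⁻¹ i t * ent e x s i = -(ent e x⁻¹ j t * ent e x s j) := by
  by_contra! hne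
  have hX := ent_ne_zero hcard h hfix hb3 hb4 hx hn
  have hU := ent_ne_zero hcard h hfix hb3 hb4 (inv_mem hx) (fun hm => hn (by simpa using hm.inv))
  set gi := ent e x⁻¹ i t * ent e x s i with hgi
  set gj := ent e x⁻¹ j t * ent e x s j with hgj
  have hij : i ≠ j := fun e1 => hne.1 (by rw [hgi, hgj, e1])
  have hgi0 : gi ≠ 0 := mul_ne_zero (hU i t) (hX s i)
  have hgj0 : gj ≠ 0 := mul_ne_zero (hU j t) (hX s j)
  set β : Fˣ := Units.mk0 (gj / gi) (div_ne_zero hgj0 hgi0) with hβ
  have hβ1 : (β : F) ≠ 1 := fun e1 => hne.1 ((div_eq_one_iff_eq hgi0).1 e1).symm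
  have hβ2 : (β : F) ≠ -1 := fun e1 => hne.2 (by
    rw [hβ, Units.val_mk0, div_eq_iff hgi0] at e1
    linear_combination e1)
  set y := x * monE e 1 (dpair i j β) * x⁻¹ with hy
  have hyM : y ∈ M := mul_mem (mul_mem hx (h.stab _ (mono_monE _ _) (det_dpair hij β))) (inv_mem hx)
  have hy0 : ent e y s t = 0 := by
    have h0 := ent_inv (e := e) x s t
    rw [if_neg hst.symm] at h0
    rw [hy, conj_ent]
    have e1 : ∑ k, ((dpair i j β k : F) - 1) * (ent e x⁻¹ k t * ent e x s k) =
        ((β : F) - 1) * gi + (((β⁻¹ : Fˣ) : F) - 1) * gj := by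
      rw [Fintype.sum_eq_add i j hij (fun k hk => by rw [dpair_other hk.1 hk.2, Units.val_one, sub_self, zero_mul]),
        dpair_left, dpair_right hij]
    simp only [sub_mul, one_mul, Finset.sum_sub_distrib, h0, sub_zero] at e1
    rw [e1, Units.val_inv_eq_inv_val, hβ, Units.val_mk0]
    field_simp
    ring
  have hym : Mono e y := by
    by_contra hc
    exact ent_ne_zero hcard h hfix hb3 hb4 hyM hc s t hy0
  obtain ⟨σ, c, hσ⟩ := exists_monE hym
  have key : ∀ m k, (dpair i j β m : F) * ent e x (σ k) m = c k * ent e x k m := fun m k => by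
    have hym' : y (x (e m)) = (dpair i j β m : F) • x (e m) := by
      rw [hy, LinearEquiv.mul_apply, LinearEquiv.mul_apply, inv_apply, monE_basis, Equiv.Perm.one_apply, map_smul]
    have := congrArg (fun v => e.repr v (σ k)) hym'
    rw [show e.repr (y (x (e m))) (σ k) = c k * e.repr (x (e m)) k by rw [hσ, repr_monE]] at this
    rw [map_smul, Finsupp.smul_apply, smul_eq_mul] at this
    exact this.symm
  obtain ⟨l, l', hll, hli, hlj, hl'i, hl'j⟩ := exists_other2 hcard i j
  have ki : ∀ k, (β : F) * ent e x (σ k) i = c k * ent e x k i := fun k => by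
    have := key i k
    rwa [dpair_left] at this
  have kl : ∀ k, ent e x (σ k) l = c k * ent e x k l := fun k => by
    have := key l k
    rwa [dpair_other hli hlj, Units.val_one, one_mul] at this
  have kl' : ∀ k, ent e x (σ k) l' = c k * ent e x k l' := fun k => by
    have := key l' k
    rwa [dpair_other hl'i hl'j, Units.val_one, one_mul] at this
  have hf : ∀ k, σ k ≠ k := fun k e1 => by
    have h1 := ki k
    have h2 := kl k
    rw [e1] at h1 h2
    have hc : (c k : F) = 1 := mul_right_cancel₀ (hX k l) (by rw [one_mul]; exact h2.symm)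
    rw [hc, one_mul] at h1
    exact hβ1 (mul_right_cancel₀ (hX k i) (by rw [one_mul]; exact h1))
  have hf2 : ∀ k, σ (σ k) ≠ k := fun k e1 => by
    have h1 := ki k
    have h2 := kl k
    have h3 := ki (σ k)
    have h4 := kl (σ k)
    rw [e1] at h3 h4
    have hcc : (c (σ k) : F) * c k = 1 := mul_right_cancel₀ (hX k l) (by
      rw [one_mul, mul_assoc, ← h2]; exact h4.symm)
    have : ((β : F) - 1) * ((β : F) + 1) = 0 := by
      have h5 : (β : F) ^ 2 * ent e x k i = 1 * ent e x k i := by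
        rw [← hcc]
        linear_combination (β : F) * h3 + (c (σ k) : F) * h1
      linear_combination mul_right_cancel₀ (hX k i) h5
    rcases mul_eq_zero.1 this with h5 | h5
    · exact hβ1 (sub_eq_zero.1 h5)
    · exact hβ2 (eq_neg_of_add_eq_zero_left h5)
  set k₀ := s
  have hcyc : ∀ m, m = k₀ ∨ m = σ k₀ ∨ m = σ (σ k₀) ∨ m = σ (σ (σ k₀)) := by
    intro m
    by_contra! hm
    by_cases h3 : σ (σ (σ k₀)) = k₀
    · have hu : ({k₀, σ k₀, σ (σ k₀), m} : Finset ι) = Finset.univ := Finset.eq_univ_of_card _ (by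
        rw [hcard, Finset.card_insert_of_notMem (by simp [(hf k₀).symm, (hf2 k₀).symm, hm.1.symm]),
          Finset.card_insert_of_notMem (by simp [(hf (σ k₀)).symm, hm.2.1.symm]),
          Finset.card_insert_of_notMem (by simp [hm.2.2.1.symm]), Finset.card_singleton])
      have hk := Finset.mem_univ (σ m)
      rw [← hu] at hk
      simp only [Finset.mem_insert, Finset.mem_singleton] at hk
      rcases hk with hk | hk | hk | hk
      · exact hm.2.2.1 (σ.injective (hk.trans h3.symm))
      · exact hm.1 (σ.injective hk)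
      · exact hm.2.1 (σ.injective hk)
      · exact hf m hk
    · have hu : ({k₀, σ k₀, σ (σ k₀), σ (σ (σ k₀))} : Finset ι) = Finset.univ := Finset.eq_univ_of_card _ (by
        rw [hcard, Finset.card_insert_of_notMem (by simp [(hf k₀).symm, (hf2 k₀).symm, Ne.symm h3]),
          Finset.card_insert_of_notMem (by simp [(hf (σ k₀)).symm, (hf2 (σ k₀)).symm]),
          Finset.card_insert_of_notMem (by simp [(hf (σ (σ k₀))).symm]), Finset.card_singleton])
      have hk := Finset.mem_univ m
      rw [← hu] at hk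
      simp [hm.1, hm.2.1, hm.2.2.1, hm.2.2.2] at hk
  set ρ := ent e x k₀ l / ent e x k₀ l' with hρ
  have hprop : ∀ k, ent e x k l = ρ * ent e x k l' → ent e x (σ k) l = ρ * ent e x (σ k) l' := fun k hk => by
    rw [kl k, kl' k, hk]; ring
  have hall : ∀ m, ent e x m l = ρ * ent e x m l' := fun m => by
    have h0 : ent e x k₀ l = ρ * ent e x k₀ l' := by rw [hρ, div_mul_cancel₀ _ (hX k₀ l')]
    rcases hcyc m with rfl | rfl | rfl | rfl
    · exact h0
    · exact hprop _ h0
    · exact hprop _ (hprop _ h0)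
    · exact hprop _ (hprop _ (hprop _ h0))
  have hz : x (e l - ρ • e l') = 0 := e.repr.injective (Finsupp.ext fun m => by
    rw [map_sub, map_smul, map_sub, map_smul, Finsupp.sub_apply, Finsupp.smul_apply, smul_eq_mul, map_zero,
      Finsupp.zero_apply]
    exact sub_eq_zero.2 (hall m))
  have := congrArg (fun v => e.repr v l) (x.map_eq_zero_iff.1 hz)
  simp [hll.symm] at this

/-- the main statement -/
theorem hasFix (h : MOver e M) {b : Fˣ} (hb3 : b ^ 3 ≠ 1) (hb4 : b ^ 4 ≠ 1)
    {x : V ≃ₗ[F] V} (hx : x ∈ M) (hn : ¬ Mono e x) : HasFix e M := by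
  by_contra hfix
  obtain ⟨z⟩ : Nonempty ι := Fintype.card_pos_iff.1 (by omega)
  have hX := ent_ne_zero hcard h hfix hb3 hb4 hx hn
  have hU := ent_ne_zero hcard h hfix hb3 hb4 (inv_mem hx) (fun hm => hn (by simpa using hm.inv))
  set κ : F := ((b⁻¹ ^ 3 : Fˣ) : F) - b with hκd
  set κ' : F := ((b⁻¹⁻¹ ^ 3 : Fˣ) : F) - ((b⁻¹ : Fˣ) : F) with hκ'd
  set u : ι → F := fun i => ent e x i z with hu
  set ρ : ι → F := fun i => ent e x⁻¹ z i with hρ
  have hb0 : (b : F) ≠ 0 := b.ne_zero
  have hb4' : (b : F) ^ 4 ≠ 1 := fun e1 => hb4 (Units.ext (by rw [Units.val_pow_eq_pow_val, e1, Units.val_one]))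
  have hκ : κ ≠ 0 := by
    rw [hκd, Units.val_pow_eq_pow_val, Units.val_inv_eq_inv_val, inv_pow, sub_ne_zero]
    intro e1
    exact hb4' (by rw [pow_succ]; nth_rewrite 2 [← e1]; exact mul_inv_cancel₀ (pow_ne_zero _ hb0))
  have hκ' : κ' ≠ 0 := by
    rw [hκ'd, inv_inv, Units.val_pow_eq_pow_val, Units.val_inv_eq_inv_val, sub_ne_zero]
    intro e1
    exact hb4' (by rw [pow_succ, e1, inv_mul_cancel₀ hb0])
  have hu0 : ∀ i, u i ≠ 0 := fun i => hX i z
  have hρ0 : ∀ i, ρ i ≠ 0 := fun i => hU z i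
  set y := x * monE e 1 (homD z b) * x⁻¹ with hy
  have hyM : y ∈ M := mul_mem (mul_mem hx (h.stab _ (mono_monE _ _) (det_homD hcard z b))) (inv_mem hx)
  have hY : ∀ s k, ent e y s k = (b : F) * (if k = s then 1 else 0) + κ * (u s * ρ k) := fun s k => by
    rw [hy, hom_ent, ← hκd]; show _ = _ + κ * (ent e x s z * ent e x⁻¹ z k); ring
  have hyi : y⁻¹ = x * monE e 1 (homD z b⁻¹) * x⁻¹ := by
    rw [hy, conj_diag_inv]
    congr 3
    funext i
    rw [homD, homD]
    split_ifs <;> simp
  have hY' : ∀ s k, ent e y⁻¹ s k = ((b⁻¹ : Fˣ) : F) * (if k = s then 1 else 0) + κ' * (u s * ρ k) := fun s k => by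
    rw [hyi, hom_ent, ← hκ'd]; show _ = _ + κ' * (ent e x s z * ent e x⁻¹ z k); ring
  have hoff : ∀ s k, s ≠ k → ent e y s k ≠ 0 := fun s k hsk => by
    rw [hY, if_neg hsk.symm, mul_zero, zero_add]
    exact mul_ne_zero hκ (mul_ne_zero (hu0 s) (hρ0 k))
  have hyn : ¬ Mono e y := by
    obtain ⟨r, w, hrw, hrz, -, hwz, -⟩ := exists_other2 hcard z z
    exact not_mono hrw (hoff r z hrz) (hoff w z hwz)
  set G : ι → F := fun i => u i * ρ i with hG
  have hG1 : ∑ i, G i = 1 := by
    have := ent_inv (e := e) x⁻¹ z z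
    rw [inv_inv, if_pos rfl] at this
    rw [← this]
  have hrel : ∀ s i t : ι, s ≠ i → t ≠ s → t ≠ i →
      (b : F) + κ * G s = κ * G i ∨ (b : F) + κ * G s = -(κ * G i) := by
    intro s i t hsi hts hti
    have e1 := pm hcard h hfix hb3 hb4 hyM hyn hts.symm s i
    have hne : κ' * (u s * ρ t) ≠ 0 := mul_ne_zero hκ' (mul_ne_zero (hu0 s) (hρ0 t))
    simp only [hY, hY', if_neg hts, if_neg hti, if_neg hsi.symm, if_true, mul_zero, zero_add, mul_one] at e1
    rcases e1 with e1 | e1
    · exact Or.inl (mul_right_cancel₀ hne (by simp only [hG]; linear_combination e1))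
    · exact Or.inr (mul_right_cancel₀ hne (by simp only [hG]; linear_combination e1))
  have heq : ∀ i j : ι, i ≠ j → G i = G j ∨ G i = -G j := by
    intro i j hij
    obtain ⟨s, t, hst, hsi, hsj, hti, htj⟩ := exists_other2 hcard i j
    have e1 := pm hcard h hfix hb3 hb4 hyM hyn hst i j
    have hne : κ * κ' * (u s * ρ t) ≠ 0 := mul_ne_zero (mul_ne_zero hκ hκ') (mul_ne_zero (hu0 s) (hρ0 t))
    simp only [hY, hY', if_neg hsi.symm, if_neg hsj.symm, if_neg hti, if_neg htj, mul_zero, zero_add] at e1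
    rcases e1 with e1 | e1
    · exact Or.inl (mul_right_cancel₀ hne (by simp only [hG]; linear_combination e1))
    · exact Or.inr (mul_right_cancel₀ hne (by simp only [hG]; linear_combination e1))
  have hGs : ∀ s, (b : F) + 2 * κ * G s = 0 := by
    intro s
    obtain ⟨i, t, hit, his, -, hts, -⟩ := exists_other2 hcard s s
    rcases hrel s i t his.symm hts (Ne.symm hit) with e1 | e1 <;> rcases heq s i his.symm with e2 | e2
    · exact absurd (by linear_combination e1 - κ * e2) hb0
    · linear_combination e1 + κ * e2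
    · linear_combination e1 + κ * e2
    · exact absurd (by linear_combination e1 - κ * e2) hb0
  have h2 : (2 : F) ≠ 0 := fun e2 => hb0 (by
    have := hGs z
    rw [e2, zero_mul, zero_mul, add_zero] at this
    exact this)
  have hκ2 : κ = -2 * (b : F) := by
    obtain ⟨p, q, hpq, hpz, -, hqz, -⟩ := exists_other2 hcard z z
    obtain ⟨r, -, -, hrp, hrq, -, -⟩ := exists_other2 hcard p q
    have e1 : ∑ i, ((b : F) + 2 * κ * G i) = 0 := Finset.sum_eq_zero fun i _ => hGs i
    rw [Finset.sum_add_distrib, ← Finset.mul_sum, hG1, Finset.sum_const, Finset.card_univ, hcard] at e1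
    have e2 : (2 : F) * κ = 2 * (-2 * b) := by simp only [nsmul_eq_mul] at e1; push_cast at e1; linear_combination e1
    exact mul_left_cancel₀ h2 e2
  have hG4 : ∀ i, (4 : F) * G i = 1 := fun i => by
    have := hGs i
    rw [hκ2] at this
    refine mul_left_cancel₀ hb0 ?_
    linear_combination -this
  have hκb : κ' = -2 * ((b⁻¹ : Fˣ) : F) := by
    have e1 : (b : F) ^ 4 = -1 := by
      rw [hκd, Units.val_pow_eq_pow_val, Units.val_inv_eq_inv_val] at hκ2
      field_simp at hκ2
      linear_combination hκ2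
    rw [hκ'd, inv_inv, Units.val_pow_eq_pow_val, Units.val_inv_eq_inv_val]
    field_simp
    linear_combination e1
  -- a dilation pair conjugated by the reflection
  have hb2 : (b : F) ^ 2 ≠ 1 := fun e1 => hb4' (by rw [show (b : F) ^ 4 = ((b : F) ^ 2) ^ 2 by ring, e1, one_pow])
  obtain ⟨p, q, hpq, -⟩ : ∃ p q : ι, p ≠ q ∧ True := by
    obtain ⟨p, q, hpq, -⟩ := exists_other2 hcard z z
    exact ⟨p, q, hpq, trivial⟩
  obtain ⟨r, w, hrw, hrp, hrq, hwp, hwq⟩ := exists_other2 hcard p q
  have hZ : ∀ (d : ι → Fˣ) s k, ent e (y * monE e 1 d * y⁻¹) s k =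
      (if k = s then (d s : F) else 0) + u s * ρ k * ((∑ i, (d i : F)) - 2 * d s - 2 * d k) := by
    intro d s k
    rw [conj_ent]
    simp only [hY, hY', hκ2, hκb]
    have hbb := b.mul_inv
    calc ∑ i, (d i : F) * ((((b⁻¹ : Fˣ) : F) * (if k = i then 1 else 0) + -2 * ((b⁻¹ : Fˣ) : F) * (u i * ρ k)) *
          ((b : F) * (if i = s then 1 else 0) + -2 * (b : F) * (u s * ρ i)))
        = ∑ i, ((d i : F) * ((if k = i then 1 else 0) * (if i = s then 1 else 0))
            - 2 * u s * ((if k = i then 1 else 0) * ((d i : F) * ρ i))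
            - 2 * ρ k * ((if i = s then 1 else 0) * ((d i : F) * u i))
            + u s * ρ k * ((d i : F) * (4 * G i))) := by
          refine Finset.sum_congr rfl fun i _ => ?_
          simp only [hG]
          linear_combination ((d i : F) * ((if k = i then (1 : F) else 0) - 2 * (u i * ρ k)) *
            ((if i = s then (1 : F) else 0) - 2 * (u s * ρ i))) * hbb
      _ = _ := by
          simp only [hG4, mul_one, Finset.sum_add_distrib, Finset.sum_sub_distrib, ← Finset.mul_sum, ite_mul, one_mul,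
            zero_mul, mul_ite, mul_zero, Finset.sum_ite_eq, Finset.sum_ite_eq', Finset.mem_univ, if_true]
          split_ifs with hks
          · subst hks; ring
          · ring
  set d := dpair p q b with hd
  have hsum : ∀ β : Fˣ, ∑ i, (dpair p q β i : F) = β + (β⁻¹ : Fˣ) + 2 := fun β => by
    rw [sum_four hcard _ hpq hrp.symm hwp.symm hrq.symm hwq.symm hrw, dpair_left, dpair_right hpq,
      dpair_other hrp hrq, dpair_other hwp hwq, Units.val_one]
    ring
  set Z := y * monE e 1 d * y⁻¹ with hZd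
  have hZM : Z ∈ M := mul_mem (mul_mem hyM (h.stab _ (mono_monE _ _) (det_dpair hpq b))) (inv_mem hyM)
  have hdi : (fun i => (d i)⁻¹) = dpair p q b⁻¹ := funext fun i => by
    rcases eq_or_ne i p with rfl | hip
    · simp [hd, dpair_left]
    rcases eq_or_ne i q with rfl | hiq
    · simp [hd, dpair_right hpq]
    simp [hd, dpair_other hip hiq]
  have hoffZ : ∀ s, s = r ∨ s = w → ent e Z s p = u s * ρ p * (((b⁻¹ : Fˣ) : F) - b) := fun s hs => by
    rw [hZd, hZ, hd, hsum, dpair_left]
    rcases hs with rfl | rfl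
    · rw [if_neg hrp.symm, dpair_other hrp hrq, Units.val_one]; ring
    · rw [if_neg hwp.symm, dpair_other hwp hwq, Units.val_one]; ring
  have hbi : ((b⁻¹ : Fˣ) : F) - b ≠ 0 := sub_ne_zero.2 fun e1 => hb2 (by
    rw [pow_two]; nth_rewrite 1 [← e1]; exact b.inv_mul)
  have hZn : ¬ Mono e Z := not_mono hrw
    (by rw [hoffZ r (Or.inl rfl)]; exact mul_ne_zero (mul_ne_zero (hu0 r) (hρ0 p)) hbi)
    (by rw [hoffZ w (Or.inr rfl)]; exact mul_ne_zero (mul_ne_zero (hu0 w) (hρ0 p)) hbi)
  have e1 := pm hcard h hfix hb3 hb4 hZM hZn hrp r w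
  rw [hZd, conj_diag_inv, hdi] at e1
  simp only [hZ, hd, hsum, dpair_left, dpair_other hrp hrq, dpair_other hwp hwq, inv_inv, Units.val_one,
    if_neg hrp.symm, if_neg hwp.symm, if_neg hrw.symm, if_true] at e1
  have hne : u r * ρ p * ((b : F) - (b⁻¹ : Fˣ)) ≠ 0 :=
    mul_ne_zero (mul_ne_zero (hu0 r) (hρ0 p)) (fun h0 => hbi (by linear_combination -h0))
  set S : F := (b : F) + (b⁻¹ : Fˣ) + 2 with hS
  have h4 : (4 : F) ≠ 0 := fun e4 => mul_ne_zero h2 h2 (by linear_combination e4)
  rcases e1 with e1 | e1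
  · have e2 : 1 + G r * (S - 4) = G w * (S - 4) := mul_right_cancel₀ hne (by
      simp only [hS, hG]; linear_combination e1)
    exact h4 (by linear_combination 4 * e2 - (S - 4) * hG4 r + (S - 4) * hG4 w)
  · have e2 : 1 + G r * (S - 4) = -(G w * (S - 4)) := mul_right_cancel₀ hne (by
      simp only [hS, hG]; linear_combination e1)
    have e3 : 2 * ((b : F) + (b⁻¹ : Fˣ)) = 0 := by
      simp only [hS] at e2 ⊢
      linear_combination 4 * e2 - ((b : F) + (b⁻¹ : Fˣ) + 2 - 4) * hG4 r - ((b : F) + (b⁻¹ : Fˣ) + 2 - 4) * hG4 w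
    have e4 := (mul_eq_zero.1 e3).resolve_left h2
    have e5 : (b : F) ^ 2 = -1 := by
      have := b.mul_inv
      linear_combination (b : F) * e4 - this
    exact hb4' (by linear_combination ((b : F) ^ 2 - 1) * e5)

end Cfsg.Agent.Classical.Decomp.Four

namespace Cfsg.Agent.Classical.Decomp

open Module Cfsg.Agent.ClassicalMax

/-- stabilisers of decompositions of a four-dimensional space into lines are maximal over fields with at least
seven elements -/
theorem isMaximal_lines {F : Type*} [Field F] [Fintype F] {κ : Type} [Fintype κ] [DecidableEq κ]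
    {D : Fin 4 → Submodule F (κ → F)} (hD : Cfsg.Geo.IsMDecomposition 1 D) (hq : 7 ≤ Fintype.card F) :
    Cfsg.Geo.IsMaximalIn (Cfsg.Geo.specialLinear κ F)
      (Cfsg.Geo.decompositionStabilizer D ⊓ Cfsg.Geo.specialLinear κ F) := by
  classical
  refine isMaximalIn_of (proper hD) fun M hstab hdet ⟨g, hg, hgD⟩ => ?_
  have hb := DirectSum.isInternal_submodule_of_iSupIndep_of_iSup_eq_top hD.indep hD.iSup_eq_top
  let b : ∀ i, Basis (Fin 1) F (D i) := fun i => (Module.finBasis F (D i)).reindex (finCongr (hD.finrank_eq i))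
  let e : Basis (Fin 4) F (κ → F) := (hb.collectedBasis b).reindex (Equiv.sigmaUnique (Fin 4) fun _ => Fin 1)
  have hmem : ∀ i, e i ∈ D i := fun i => by
    rw [Basis.reindex_apply]
    exact hb.collectedBasis_mem b ((Equiv.sigmaUnique (Fin 4) fun _ => Fin 1).symm i)
  have hspan : ∀ i, D i = Submodule.span F {e i} := fun i => by
    refine (Submodule.eq_of_le_of_finrank_eq ((Submodule.span_singleton_le_iff_mem _ _).2 (hmem i)) ?_).symm
    rw [finrank_span_singleton (e.ne_zero i), hD.finrank_eq]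
  have hiff : ∀ g, Permutes D g ↔ Mono e g := fun g => by
    constructor
    · rintro ⟨σ, hσ⟩ i
      have h' : g (e i) ∈ D (σ i) := hσ i ▸ Submodule.mem_map_of_mem (hmem i)
      rw [hspan] at h'
      obtain ⟨c, hc⟩ := Submodule.mem_span_singleton.1 h'
      exact ⟨σ i, c, hc.symm⟩
    · intro hmn
      obtain ⟨σ, c, rfl⟩ := exists_monE hmn
      refine permutes_of_le hD.finrank_eq _ σ fun i x hx => ?_
      rw [hspan] at hx
      obtain ⟨a, rfl⟩ := Submodule.mem_span_singleton.1 hx
      rw [map_smul, monE_basis]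
      exact Submodule.smul_mem _ _ (Submodule.smul_mem _ _ (hmem _))
  have h : MOver e M := ⟨fun x hx hd => hstab x ((hiff x).2 hx) hd, by rw [Fintype.card_fin]⟩
  obtain ⟨β, hβ⟩ := IsCyclic.exists_generator (α := Fˣ)
  have ho : orderOf β = Fintype.card F - 1 := by
    rw [orderOf_eq_card_of_forall_mem_zpowers hβ, Nat.card_eq_fintype_card, Fintype.card_units]
  refine h.all_tvec hdet (by omega) (Four.hasFix (by rw [Fintype.card_fin]) h (b := β) ?_ ?_ hg
    fun hc => hgD ((hiff g).2 hc))
  · exact pow_ne_one_of_lt_orderOf (by norm_num) (by omega)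
  · exact pow_ne_one_of_lt_orderOf (by norm_num) (by omega)

end Cfsg.Agent.Classical.Decomp
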